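import Groth.Agent.MiscTwoH99.PicLift.Basic
import Groth.Agent.WeilNumLib.Single
import Mathlib.RingTheory.Ideal.GoingUp
import Mathlib.RingTheory.Ideal.MinimalPrime.Localization
import Mathlib.GroupTheory.FiniteAbelian.Basic

/-! # Picard groups of orders generated by families of Weil numbers -/

set_option autoImplicit false

universe u v w

open MvPolynomial (X)

namespace Groth.Agent.MiscTwoH99.PicLift

section Pi

variable {ι : Type} {K : ι → Type v} [∀ i, CommRing (K i)]

theorem aeval_pi_apply (a : Fin 2 → (i : ι) → K i) (g : MvPolynomial (Fin 2) ℤ) (i : ι) :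
    MvPolynomial.aeval a g i = MvPolynomial.aeval (fun j => a j i) g :=
  congrArg (fun φ : MvPolynomial (Fin 2) ℤ →ₐ[ℤ] K i => φ g)
    (MvPolynomial.comp_aeval a (Pi.evalAlgHom ℤ K i))

theorem isIntegral_pi [Fintype ι] {a : (i : ι) → K i} (h : ∀ i, IsIntegral ℤ (a i)) : IsIntegral ℤ a := by
  classical
  choose P hP h0 using h
  refine ⟨∏ i, P i, Polynomial.monic_prod_of_monic _ _ fun i _ => hP i, funext fun i => ?_⟩
  show Pi.evalAlgHom ℤ K i (Polynomial.aeval a (∏ i, P i)) = 0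
  rw [← Polynomial.aeval_algHom_apply, map_prod]
  exact Finset.prod_eq_zero (Finset.mem_univ i) (h0 i)

end Pi

/-- The defining map of the order of a family. -/
noncomputable abbrev val {ι : Type} (K : ι → Type v) [∀ j, Field (K j)] (p e : ℕ) (ϖ : ∀ j, K j) :
    MvPolynomial (Fin 2) ℤ →ₐ[ℤ] ((j : ι) → K j) :=
  MvPolynomial.aeval ![fun j => ϖ j, fun j => ((p : K j) ^ e) / ϖ j]

theorem val_aeval_X0 {ι : Type} (K : ι → Type v) [∀ j, Field (K j)] (p e : ℕ) (ϖ : ∀ j, K j)
    (P : Polynomial ℤ) (j : ι) : val K p e ϖ (Polynomial.aeval (X 0) P) j = Polynomial.aeval (ϖ j) P := by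
  rw [aeval_pi_apply, ← Polynomial.aeval_algHom_apply, MvPolynomial.aeval_X]
  rfl

section Weil

variable (p e : ℕ) [Fact p.Prime] {ι : Type} [Fintype ι] (K : ι → Type v) [∀ j, Field (K j)] [∀ j, CharZero (K j)]
  (ϖ : ∀ j, K j) (hint : ∀ j, IsIntegral ℤ (ϖ j))
  (hweil : ∀ j, ∀ z ∈ (minpoly ℤ (ϖ j)).aroots ℂ, ‖z‖ = Real.sqrt ((p : ℝ) ^ e))

include hint hweil in
theorem isIntegral_val (g : MvPolynomial (Fin 2) ℤ) : IsIntegral ℤ (val K p e ϖ g) := by
  induction g using MvPolynomial.induction_on with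
  | C a => rw [MvPolynomial.aeval_C]; exact isIntegral_algebraMap
  | add a b ha hb => rw [map_add]; exact ha.add hb
  | mul_X a i ha =>
    rw [map_mul, MvPolynomial.aeval_X]
    refine ha.mul (isIntegral_pi fun j => ?_)
    fin_cases i
    · exact hint j
    · have hW := WeilNumLib.single p e (hint j) (hweil j)
      have hm := hW.monic_minpoly ()
      obtain ⟨-, h⟩ := hW.root_div (L := K j) (z := ϖ j)
        (Polynomial.mem_aroots.mpr ⟨hm.ne_zero, minpoly.aeval ℤ (ϖ j)⟩)
      refine ⟨minpoly ℤ (ϖ j), hm, ?_⟩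
      have h' := (Polynomial.mem_aroots.mp h).2
      push_cast at h'
      exact h'

end Weil

theorem pic_surjective (p e : ℕ) [Fact p.Prime] {J J' : Type} [Fintype J] [Fintype J'] (emb : J' → J)
    (hemb : Function.Injective emb) (K : J → Type u) [∀ j, Field (K j)] [∀ j, CharZero (K j)] (ϖ : ∀ j, K j)
    (hint : ∀ j, IsIntegral ℤ (ϖ j))
    (hweil : ∀ j, ∀ z ∈ (minpoly ℤ (ϖ j)).aroots ℂ, ‖z‖ = Real.sqrt ((p : ℝ) ^ e))
    (hinj : ∀ i j, minpoly ℤ (ϖ i) = minpoly ℤ (ϖ j) → i = j)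
    (hle : RingHom.ker (val K p e ϖ) ≤ RingHom.ker (val (fun j' => K (emb j')) p e (fun j' => ϖ (emb j')))) :
    Function.Surjective (CommRing.Pic.mapRingHom (Ideal.Quotient.factor hle)) := by
  classical
  set v := val K p e ϖ
  set w := val (fun j' => K (emb j')) p e (fun j' => ϖ (emb j'))
  have hvw : ∀ g j', w g j' = v g (emb j') := fun g j' => by
    rw [aeval_pi_apply, aeval_pi_apply]
    congr 2
    funext i
    fin_cases i <;> rfl
  let G : MvPolynomial (Fin 2) ℤ := ∏ j ∈ Finset.univ.filter (fun j => j ∉ Set.range emb),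
    Polynomial.aeval (X 0) (minpoly ℤ (ϖ j))
  have hG : ∀ j, j ∉ Set.range emb → v G j = 0 := fun j hj => by
    rw [map_prod, Finset.prod_apply]
    refine Finset.prod_eq_zero (Finset.mem_filter.mpr ⟨Finset.mem_univ j, hj⟩) ?_
    rw [val_aeval_X0, minpoly.aeval]
  have hG' : ∀ j', w G j' ≠ 0 := fun j' => by
    rw [hvw, map_prod, Finset.prod_apply, Finset.prod_ne_zero_iff]
    intro i hi h0
    rw [val_aeval_X0] at h0
    have hdvd := minpoly.isIntegrallyClosed_dvd (hint (emb j')) h0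
    have heq := Polynomial.eq_of_monic_of_associated (minpoly.monic (hint (emb j'))) (minpoly.monic (hint i))
      ((minpoly.irreducible (hint (emb j'))).associated_of_dvd (minpoly.irreducible (hint i)) hdvd)
    exact (Finset.mem_filter.mp hi).2 ⟨j', hinj _ _ heq⟩
  let wb := Ideal.kerLiftAlg w
  have hwb : Function.Injective wb := Ideal.kerLiftAlg_injective w
  haveI : IsReduced (MvPolynomial (Fin 2) ℤ ⧸ RingHom.ker w) := isReduced_of_injective wb hwb
  haveI : Algebra.IsIntegral ℤ (MvPolynomial (Fin 2) ℤ ⧸ RingHom.ker w) := ⟨fun y => by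
    obtain ⟨g, rfl⟩ := Ideal.Quotient.mk_surjective y
    refine (isIntegral_algHom_iff wb hwb).mp ?_
    exact isIntegral_val p e _ _ (fun j' => hint (emb j')) (fun j' => hweil (emb j')) g⟩
  haveI : Module.Finite ℤ (MvPolynomial (Fin 2) ℤ ⧸ RingHom.ker w) := Algebra.IsIntegral.finite
  let J₀ : Ideal (MvPolynomial (Fin 2) ℤ ⧸ RingHom.ker v) := Ideal.span {Ideal.Quotient.mk _ (2 * G)}
  let r : MvPolynomial (Fin 2) ℤ ⧸ RingHom.ker w := Ideal.Quotient.mk _ (2 * G)
  let K₀ : Ideal (MvPolynomial (Fin 2) ℤ ⧸ RingHom.ker w) := Ideal.span {r}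
  have hmap : J₀.map (Ideal.Quotient.factor hle) = K₀ := by
    rw [Ideal.map_span, Set.image_singleton, Ideal.Quotient.factor_mk]
  have hr : ∀ x, x * r = 0 → x = 0 := fun x hx => hwb (by
    rw [map_zero]
    funext j'
    have h := congrFun (congrArg wb hx) j'
    rw [map_mul, map_zero] at h
    refine (mul_eq_zero.mp h).resolve_right ?_
    show w (2 * G) j' ≠ 0
    rw [map_mul, map_ofNat, Pi.mul_apply]
    exact mul_ne_zero (by simp) (hG' j'))
  obtain ⟨P, hPm, hP⟩ := Algebra.IsIntegral.isIntegral (R := ℤ) r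
  obtain ⟨i, hi0, hi⟩ := Ideal.exists_coeff_ne_zero_mem_comap_of_non_zero_divisor_root_mem
    (fun {x} => hr x) (Ideal.mem_span_singleton_self r) hPm.ne_zero hP
  haveI : Finite ((MvPolynomial (Fin 2) ℤ ⧸ RingHom.ker w) ⧸ K₀) := by
    haveI : Module.Finite ℤ ((MvPolynomial (Fin 2) ℤ ⧸ RingHom.ker w) ⧸ K₀) :=
      Module.Finite.of_surjective (Ideal.Quotient.mkₐ ℤ K₀).toLinearMap Ideal.Quotient.mk_surjective
    haveI : AddGroup.FG ((MvPolynomial (Fin 2) ℤ ⧸ RingHom.ker w) ⧸ K₀) :=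
      Module.Finite.iff_addGroup_fg.mp inferInstance
    refine AddCommGroup.finite_of_fg_isAddTorsion _ fun x =>
      isOfFinAddOrder_iff_zsmul_eq_zero.mpr ⟨P.coeff i, hi0, ?_⟩
    have h0 : Ideal.Quotient.mk K₀ ((P.coeff i : ℤ) : MvPolynomial (Fin 2) ℤ ⧸ RingHom.ker w) = 0 :=
      Ideal.Quotient.eq_zero_iff_mem.mpr hi
    rw [map_intCast] at h0
    refine (zsmul_eq_mul x _).trans ?_
    rw [h0]
    exact MulZeroClass.zero_mul x
  haveI : Finite (MaximalSpectrum ((MvPolynomial (Fin 2) ℤ ⧸ RingHom.ker w) ⧸ K₀)) := by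
    haveI : Finite (Ideal ((MvPolynomial (Fin 2) ℤ ⧸ RingHom.ker w) ⧸ K₀)) :=
      Finite.of_injective _ SetLike.coe_injective
    exact Finite.of_injective (fun M : MaximalSpectrum ((MvPolynomial (Fin 2) ℤ ⧸ RingHom.ker w) ⧸ K₀) => M.asIdeal)
      fun a b h => MaximalSpectrum.ext h
  haveI : Finite (MaximalSpectrum ((MvPolynomial (Fin 2) ℤ ⧸ RingHom.ker w) ⧸ J₀.map (Ideal.Quotient.factor hle))) := by
    rw [hmap]; infer_instance
  refine mapRingHom_surjective (Ideal.Quotient.factor hle) (Ideal.Quotient.factor_surjective hle) J₀ ?_ ?_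
  · intro x hx j hj
    obtain ⟨x, rfl⟩ := Ideal.Quotient.mk_surjective x
    obtain ⟨c, rfl⟩ := Ideal.mem_span_singleton'.mp hj
    obtain ⟨c, rfl⟩ := Ideal.Quotient.mk_surjective c
    rw [Ideal.Quotient.factor_mk, Ideal.Quotient.eq_zero_iff_mem, RingHom.mem_ker] at hx
    rw [← map_mul, ← map_mul, Ideal.Quotient.eq_zero_iff_mem, RingHom.mem_ker]
    funext k
    by_cases hk : k ∈ Set.range emb
    · obtain ⟨j', rfl⟩ := hk
      have hzero : v x (emb j') = 0 := by rw [← hvw, hx]; rfl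
      simp [hzero]
    · simp [hG k hk]
  · intro q hq htop
    haveI := hq.1.1
    have hzero : ∀ n : ℤ, (n : MvPolynomial (Fin 2) ℤ ⧸ RingHom.ker w) ∈ q → n = 0 := fun n hn => by
      by_contra hne
      refine Set.disjoint_left.mp (Ideal.disjoint_nonZeroDivisors_of_mem_minimalPrimes hq) hn ?_
      rw [SetLike.mem_coe, mem_nonZeroDivisors_iff_right]
      intro x hx
      refine hwb ?_
      rw [map_zero]
      funext j'
      have h := congrFun (congrArg wb hx) j'
      rw [map_mul, map_zero, map_intCast, Pi.mul_apply, Pi.intCast_apply] at h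
      exact (mul_eq_zero.mp h).resolve_right (Int.cast_ne_zero.mpr hne)
    haveI : (Ideal.span {(2 : ℤ)}).IsPrime := by
      rw [Ideal.span_singleton_prime two_ne_zero]
      exact Int.prime_two
    obtain ⟨Q, hQ, hQp, hQc⟩ := Ideal.exists_ideal_over_prime_of_isIntegral (S := MvPolynomial (Fin 2) ℤ ⧸ RingHom.ker w)
      (Ideal.span {(2 : ℤ)}) q (fun n hn => by
        rw [hzero n (by simpa using hn)]
        exact zero_mem _)
    refine hQp.ne_top (top_le_iff.mp (htop ▸ sup_le hQ ?_))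
    rw [hmap, Ideal.span_le, Set.singleton_subset_iff]
    have h2 : (2 : ℤ) ∈ Q.comap (algebraMap ℤ (MvPolynomial (Fin 2) ℤ ⧸ RingHom.ker w)) :=
      hQc.symm ▸ Ideal.mem_span_singleton_self _
    rw [Ideal.mem_comap, map_ofNat] at h2
    show Ideal.Quotient.mk _ (2 * G) ∈ Q
    rw [map_mul, map_ofNat]
    exact Ideal.mul_mem_right _ _ h2

end Groth.Agent.MiscTwoH99.PicLift
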