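import Mathlib.RingTheory.PicardGroup
import Mathlib.RingTheory.Ideal.MinimalPrime.Basic
import Mathlib.RingTheory.Nilpotent.Lemmas
import Mathlib.LinearAlgebra.TensorProduct.Tower

/-!
# Lifting invertible modules along a quotient map

If `σ : R → R'` is surjective, `J` is killed by the kernel of `σ`, `R'` is reduced, `R'/σ J` is semilocal
and no minimal prime of `R'` is comaximal with `σ J`, then `Pic R → Pic R'` is surjective.
-/

set_option autoImplicit false

universe u

open TensorProduct

namespace Groth.Agent.MiscTwoH99.PicLift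

variable {R : Type u} [CommRing R]

/-- An ideal whose functionals have unit trace is an invertible module. -/
theorem invertible_of_trace (A : Ideal R) (h : (1 : R) ∈ Submodule.span R {r | ∃ (ψ : A →ₗ[R] R) (x : A), ψ x = r}) :
    Module.Invertible R A := by
  have hsymm : ∀ (ψ : A →ₗ[R] R) (x y : A), ψ x • y = ψ y • x := fun ψ x y => Subtype.ext (by
    show ψ x * (y : R) = ψ y * (x : R)
    rw [mul_comm, ← smul_eq_mul, ← map_smul, mul_comm (ψ y), ← smul_eq_mul (x : R), ← map_smul]
    congr 1
    exact Subtype.ext (mul_comm _ _))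
  obtain ⟨w, hw⟩ : ∃ w : Module.Dual R A ⊗[R] A, contractLeft R A w = 1 := by
    refine LinearMap.mem_range.mp (Submodule.span_le.mpr ?_ h)
    rintro r ⟨ψ, x, rfl⟩
    exact ⟨ψ ⊗ₜ x, contractLeft_apply ψ x⟩
  have key : ∀ z : Module.Dual R A ⊗[R] A, z = contractLeft R A z • w := by
    intro z
    have h1 : ∀ (f : Module.Dual R A) (x : A) (v : Module.Dual R A ⊗[R] A),
        f x • v = contractLeft R A v • (f ⊗ₜ[R] x) := by
      intro f x v
      induction v using TensorProduct.induction_on with
      | zero => simp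
      | add a b ha hb => rw [smul_add, ha, hb, map_add, add_smul]
      | tmul g y =>
        rw [contractLeft_apply, TensorProduct.smul_tmul', TensorProduct.smul_tmul' (g y)]
        rw [TensorProduct.smul_tmul, hsymm f x y, ← TensorProduct.smul_tmul]
        have h3 : f y • g = g y • f := LinearMap.ext fun z => by
          show f y * g z = g y * f z
          have := congrArg g (hsymm f y z)
          rw [map_smul, map_smul, smul_eq_mul, smul_eq_mul] at this
          rw [this, mul_comm]
        rw [h3]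
    induction z using TensorProduct.induction_on with
    | zero => simp
    | add a b ha hb => rw [map_add, add_smul, ← ha, ← hb]
    | tmul f x => rw [contractLeft_apply, h1 f x w, hw, one_smul]
  exact ⟨⟨fun a b e => by rw [key a, key b, e], fun r => ⟨r • w, by rw [map_smul, hw, smul_eq_mul, mul_one]⟩⟩⟩

/-- An invertible module has functionals with unit trace. -/
theorem trace_eq_one (L : Type u) [AddCommGroup L] [Module R L] [Module.Invertible R L] :
    (1 : R) ∈ Submodule.span R {r | ∃ (ψ : L →ₗ[R] R) (x : L), ψ x = r} := by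
  obtain ⟨w, hw⟩ := (Module.Invertible.bijective (R := R) (M := L)).2 1
  rw [← hw]
  clear hw
  induction w using TensorProduct.induction_on with
  | zero => rw [map_zero]; exact zero_mem _
  | add a b ha hb => rw [map_add]; exact add_mem ha hb
  | tmul f x => exact Submodule.subset_span ⟨f, x, (contractLeft_apply f x).symm⟩

variable {R' : Type u} [CommRing R'] [IsReduced R']

/-- An invertible module is an ideal containing an element congruent to one. -/
theorem exists_embedding (K : Ideal R') [Finite (MaximalSpectrum (R' ⧸ K))]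
    (hmin : ∀ q ∈ minimalPrimes R', q ⊔ K ≠ ⊤) (L : Type u) [AddCommGroup L] [Module R' L] [Module.Invertible R' L] :
    ∃ φ : L →ₗ[R'] R', Function.Injective φ ∧ ∃ s, φ s - 1 ∈ K := by
  haveI : Module.Invertible (R' ⧸ K) ((R' ⧸ K) ⊗[R'] L) := inferInstance
  obtain ⟨e⟩ := Module.Invertible.free_iff_linearEquiv.mp
    (inferInstance : Module.Free (R' ⧸ K) ((R' ⧸ K) ⊗[R'] L))
  let χ : L →ₗ[R'] R' ⧸ K := (e.toLinearMap.restrictScalars R').comp (TensorProduct.mk R' (R' ⧸ K) L 1)
  have hχ : Function.Surjective χ := e.surjective.comp (TensorProduct.mk_surjective R' L _ Ideal.Quotient.mk_surjective)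
  obtain ⟨φ, hφ⟩ := Module.projective_lifting_property (Submodule.mkQ K) χ (Submodule.mkQ_surjective K)
  obtain ⟨s, hs⟩ := hχ 1
  have hs' : φ s - 1 ∈ K := by
    refine Ideal.Quotient.mk_eq_mk_iff_sub_mem _ _ |>.mp ?_
    rw [map_one, ← hs]
    exact LinearMap.congr_fun hφ s
  refine ⟨φ, (injective_iff_map_eq_zero φ).mpr fun x hx => ?_, s, hs'⟩
  refine (Module.forall_dual_apply_eq_zero_iff R' x).mp fun ψ => ?_
  have h1 : ψ x * φ s = 0 := by
    have h := congrArg (TensorProduct.lift (LinearMap.smulRight (ψ : L →ₗ[R'] R') φ)) (Module.Invertible.tmul_comm (R := R') (m₁ := x) (m₂ := s))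
    simp only [TensorProduct.lift.tmul, LinearMap.smulRight_apply, LinearMap.smul_apply, smul_eq_mul, hx, mul_zero] at h
    exact h
  have hnil : ψ x ∈ sInf (minimalPrimes R') := by
    refine Ideal.mem_sInf.mpr fun {q} hq => ?_
    refine (hq.1.1.mem_or_mem (h1 ▸ q.zero_mem : ψ x * φ s ∈ q)).resolve_right fun hmem => hmin q hq ?_
    rw [Ideal.eq_top_iff_one, ← sub_sub_cancel (φ s) 1]
    exact sub_mem (Ideal.mem_sup_left hmem) (Ideal.mem_sup_right hs')
  change ψ x ∈ sInf ((⊥ : Ideal R').minimalPrimes) at hnil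
  rw [Ideal.sInf_minimalPrimes] at hnil
  obtain ⟨n, hn⟩ := hnil
  exact IsNilpotent.eq_zero ⟨n, hn⟩

/-- Lifting invertible modules. -/
theorem mapRingHom_surjective (σ : R →+* R') (hσ : Function.Surjective σ) (J : Ideal R)
    (hJ : ∀ i, σ i = 0 → ∀ j ∈ J, i * j = 0) [Finite (MaximalSpectrum (R' ⧸ J.map σ))]
    (hmin : ∀ q ∈ minimalPrimes R', q ⊔ J.map σ ≠ ⊤) : Function.Surjective (CommRing.Pic.mapRingHom σ) := by
  intro M
  letI := σ.toAlgebra
  obtain ⟨φ, hφ, s, hs⟩ := exists_embedding (J.map σ) hmin M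
  let a : Ideal R' := LinearMap.range φ
  let e : M ≃ₗ[R'] a := LinearEquiv.ofInjective φ hφ
  haveI : Module.Invertible R' a := .congr e
  let A : Ideal R := a.comap σ
  obtain ⟨j, hj, hjs⟩ := (Ideal.mem_map_iff_of_surjective σ hσ).mp hs
  have hr : 1 + j ∈ A := by
    show σ (1 + j) ∈ a
    rw [map_add, map_one, hjs, add_sub_cancel]
    exact ⟨s, rfl⟩
  haveI : Module.Invertible R A := by
    refine invertible_of_trace A ?_
    have hmul : (j : R) ∈ Submodule.span R {r | ∃ (ψ : A →ₗ[R] R) (x : A), ψ x = r} := by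
      have h1 := trace_eq_one (R := R') a
      have h2 : ∀ y ∈ Submodule.span R' {r | ∃ (ψ : a →ₗ[R'] R') (x : a), ψ x = r}, ∀ z, σ z = y →
          j * z ∈ Submodule.span R {r | ∃ (ψ : A →ₗ[R] R) (x : A), ψ x = r} := by
        intro y hy
        induction hy using Submodule.span_induction with
        | zero =>
          intro z hz
          rw [mul_comm, hJ z hz j hj]
          exact zero_mem _
        | add y₁ y₂ _ _ h₁ h₂ =>
          intro z hz
          obtain ⟨z₁, hz₁⟩ := hσ y₁
          have hz₂ : σ (z - z₁) = y₂ := by rw [map_sub, hz, hz₁, add_sub_cancel_left]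
          rw [show j * z = j * z₁ + j * (z - z₁) by ring]
          exact add_mem (h₁ z₁ hz₁) (h₂ _ hz₂)
        | smul c y _ h₁ =>
          intro z hz
          obtain ⟨z₁, hz₁⟩ := hσ y
          obtain ⟨c₀, hc₀⟩ := hσ c
          have h0 : σ (z - c₀ * z₁) = 0 := by rw [map_sub, map_mul, hz, hz₁, hc₀, smul_eq_mul, sub_self]
          rw [show j * z = c₀ • (j * z₁) + (z - c₀ * z₁) * j by rw [smul_eq_mul]; ring, hJ _ h0 j hj, add_zero]
          exact Submodule.smul_mem _ _ (h₁ z₁ hz₁)
        | mem y hy =>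
          obtain ⟨g, x, rfl⟩ := hy
          intro z hz
          obtain ⟨x₀, hx₀⟩ := hσ x
          have hxA : x₀ ∈ A := by show σ x₀ ∈ a; rw [hx₀]; exact x.2
          let c : R' → R := fun y => j * Function.surjInv hσ y
          have hc : ∀ z, c (σ z) = j * z := fun z => by
            have h0 : σ (Function.surjInv hσ (σ z) - z) = 0 := by
              rw [map_sub, Function.surjInv_eq hσ, sub_self]
            have := hJ _ h0 j hj
            rw [sub_mul, sub_eq_zero] at this
            show j * Function.surjInv hσ (σ z) = j * z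
            rw [mul_comm, this, mul_comm]
          let ψ : A →ₗ[R] R :=
            { toFun := fun w => c (g ⟨σ w.1, w.2⟩)
              map_add' := fun w₁ w₂ => by
                obtain ⟨u₁, hu₁⟩ := hσ (g ⟨σ w₁.1, w₁.2⟩)
                obtain ⟨u₂, hu₂⟩ := hσ (g ⟨σ w₂.1, w₂.2⟩)
                show c (g ⟨σ (w₁.1 + w₂.1), _⟩) = _
                rw [show (⟨σ (w₁.1 + w₂.1), (w₁ + w₂).2⟩ : a) = ⟨σ w₁.1, w₁.2⟩ + ⟨σ w₂.1, w₂.2⟩ from
                  Subtype.ext (map_add σ _ _), map_add, ← hu₁, ← hu₂, ← map_add, hc, hc, hc, mul_add]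
              map_smul' := fun b w => by
                obtain ⟨u₁, hu₁⟩ := hσ (g ⟨σ w.1, w.2⟩)
                show c (g ⟨σ (b * w.1), _⟩) = b * c _
                rw [show (⟨σ (b * w.1), (b • w).2⟩ : a) = σ b • ⟨σ w.1, w.2⟩ from
                  Subtype.ext (map_mul σ _ _), map_smul, ← hu₁, smul_eq_mul, ← map_mul, hc, hc]
                ring }
          refine Submodule.subset_span ⟨ψ, ⟨x₀, hxA⟩, ?_⟩
          show c (g ⟨σ x₀, hxA⟩) = j * z
          rw [show (⟨σ x₀, hxA⟩ : a) = x from Subtype.ext hx₀, ← hz, hc]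
      simpa using h2 1 h1 1 (map_one σ)
    have hmem : (1 + j : R) ∈ Submodule.span R {r | ∃ (ψ : A →ₗ[R] R) (x : A), ψ x = r} :=
      Submodule.subset_span ⟨A.subtype, ⟨1 + j, hr⟩, rfl⟩
    simpa using sub_mem hmem hmul
  refine ⟨CommRing.Pic.mk R A, ?_⟩
  let κ : A →ₗ[R] a :=
    { toFun := fun w => ⟨σ w.1, w.2⟩
      map_add' := fun w₁ w₂ => Subtype.ext (map_add σ _ _)
      map_smul' := fun b w => Subtype.ext (by
        show σ (b * w.1) = σ b * σ w.1
        exact map_mul σ _ _) }
  let h : R' ⊗[R] A →ₗ[R'] a := κ.liftBaseChange R'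
  have hh : Function.Surjective h := fun y => by
    obtain ⟨w, hw⟩ := hσ y.1
    have hwA : w ∈ A := by show σ w ∈ a; rw [hw]; exact y.2
    refine ⟨1 ⊗ₜ ⟨w, hwA⟩, ?_⟩
    rw [LinearMap.liftBaseChange_tmul, one_smul]
    exact Subtype.ext hw
  show CommRing.Pic.mapAlgebra R R' (CommRing.Pic.mk R A) = M
  rw [CommRing.Pic.mapAlgebra_apply, CommRing.Pic.mk_eq_iff]
  exact ⟨TensorProduct.AlgebraTensorModule.congr (.refl R' R') (CommRing.Pic.mk.linearEquiv R A) ≪≫ₗ
    LinearEquiv.ofBijective h (Module.Invertible.bijective_of_surjective hh) ≪≫ₗ e.symm⟩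

end Groth.Agent.MiscTwoH99.PicLift
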